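import Cfsg.Agent.H43.Omega
import Cfsg.Agent.H43.Restrict

/-!
The subgroup generated by the reflections of one norm class.
-/

set_option autoImplicit false

namespace H43

variable {F : Type*} [Field F] {V : Type*} [AddCommGroup V] [Module F V] [FiniteDimensional F V]
  {Q : QuadraticForm F V}

/-- Reflections in vectors whose value lies in the square class of `c`. -/
def normClassSet (Q : QuadraticForm F V) (c : F) : Set (orthGroup Q) :=
  {g | ∃ v, Q v ≠ 0 ∧ sqc (Q v) = sqc c ∧ g = refl Q v}

/-- An isometry with one-dimensional residual space is a reflection. -/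
theorem eq_refl_of_finrank_one (hQ : (polB Q).Nondegenerate) (g : orthGroup Q)
    (h : Module.finrank F (resid g) = 1) : ∃ v, Q v ≠ 0 ∧ g = refl Q v := by
  obtain ⟨u, hu0, hspan⟩ := finrank_eq_one_iff'.mp h
  have hQu : Q (u : V) ≠ 0 := by
    intro h0
    refine hu0 ((wallForm_nondeg hQ g).1 u fun t => ?_)
    obtain ⟨c, rfl⟩ := hspan t
    rw [map_smul, wallForm_self, h0, smul_zero]
  refine ⟨u, hQu, ?_⟩
  have h1 := finrank_resid_refl_mul_of_mem hQ hQu u.2
  rw [h] at h1
  have h2 := eq_one_of_resid_eq_bot (g := refl Q (u : V) * g)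
    (Submodule.finrank_eq_zero.mp (by omega))
  calc g = refl Q (u : V) * (refl Q (u : V) * g) := (refl_mul_refl_mul g (u : V)).symm
    _ = refl Q (u : V) := by rw [h2, mul_one]

theorem plane_invert (hQ : (polB Q).Nondegenerate) {a u w : V} (ha : Q a ≠ 0) (hu : Q u ≠ 0)
    (hw : Q w ≠ 0) {P : Submodule F V} (hP : Module.finrank F P ≤ 2) (haP : a ∈ P) (huP : u ∈ P)
    (hwP : w ∈ P) :
    refl Q a * refl Q u * refl Q w * (refl Q a * refl Q u * refl Q w) = 1 := by
  set g := refl Q a * (refl Q u * refl Q w)
  have hg : g = refl Q a * refl Q u * refl Q w := by simp only [g, mul_assoc]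
  rw [← hg]
  have hle : resid g ≤ P := by
    rintro _ ⟨x, rfl⟩
    simp only [g, resMap_refl_mul]
    refine P.add_mem (P.add_mem ?_ (P.smul_mem _ huP)) (P.smul_mem _ haP)
    rw [resMap_apply, refl_apply, sub_sub_cancel]
    exact P.smul_mem _ hwP
  have hd : dickson g = Multiplicative.ofAdd 1 := by
    show dickson (refl Q a * (refl Q u * refl Q w)) = _
    rw [dickson_refl_mul hQ _ ha, dickson_refl_mul hQ _ hu, dickson_refl hQ hw]
    rfl
  have h2 := (Submodule.finrank_mono hle).trans hP
  have h1 : Module.finrank F (resid g) = 1 := by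
    rw [dickson] at hd
    have hd' : ((Module.finrank F (resid g) : ℕ) : ZMod 2) = 1 := Multiplicative.ofAdd.injective hd
    interval_cases hh : Module.finrank F (resid g)
    · simp at hd'
    · rfl
    · exact absurd hd' (by decide)
  obtain ⟨v, -, hv⟩ := eq_refl_of_finrank_one hQ g h1
  rw [hv, refl_sq]

/-- In a non-degenerate plane a product of two reflections of equal value is a product of
reflections of the class of `c`. -/
theorem pair_mem_of_plane [Finite F] (hQ : (polB Q).Nondegenerate) (h2 : (2 : F) ≠ 0) {c : F}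
    (hc : c ≠ 0) {u v : V} (hu : Q u ≠ 0) (huv : Q v = Q u)
    (hdisc : polB Q u v * polB Q u v ≠ 4 * (Q u * Q u)) :
    refl Q u * refl Q v ∈ Subgroup.closure (normClassSet Q c) := by
  have hu0 : u ≠ 0 := fun h => hu (h ▸ QuadraticMap.map_zero Q)
  have hv : Q v ≠ 0 := by rwa [huv]
  have hind : LinearIndependent F ![u, v] := by
    rw [LinearIndependent.pair_iff' hu0]
    intro r hr
    subst hr
    rw [qmap_smul] at huv
    apply hdisc
    rw [map_smul, polB_self, smul_eq_mul]
    linear_combination (4 * Q u) * huv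
  set P := Submodule.span F ({u, v} : Set V) with hPdef
  have hrange : Set.range ![u, v] = {u, v} := by simp [Matrix.range_cons, Matrix.range_empty, Set.pair_comm]
  have hP : Module.finrank F P = 2 := by
    rw [hPdef, ← hrange, finrank_span_eq_card hind]; rfl
  have huP : u ∈ P := Submodule.subset_span (by simp)
  have hvP : v ∈ P := Submodule.subset_span (by simp)
  have hPnd : (polB (Q.restrict P)).Nondegenerate := by
    apply restrict_nondeg
    rw [eq_bot_iff]
    rintro x ⟨hxP, hx⟩
    obtain ⟨s, t, rfl⟩ := Submodule.mem_span_pair.mp hxP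
    have e1 := hx u huP
    have e2 := hx v hvP
    simp only [map_add, map_smul, smul_eq_mul, polB_self, polB_comm v u, huv] at e1 e2
    have hd : polB Q u v * polB Q u v - 4 * (Q u * Q u) ≠ 0 := sub_ne_zero.mpr hdisc
    have ht : t = 0 := by
      refine (mul_eq_zero.mp (?_ : t * (polB Q u v * polB Q u v - 4 * (Q u * Q u)) = 0)).resolve_right hd
      linear_combination (polB Q u v) * e1 - 2 * Q u * e2
    have hs : s = 0 := by
      refine (mul_eq_zero.mp (?_ : s * (polB Q u v * polB Q u v - 4 * (Q u * Q u)) = 0)).resolve_right hd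
      linear_combination (polB Q u v) * e2 - 2 * Q u * e1
    simp [hs, ht]
  obtain ⟨⟨a, haP⟩, ha⟩ := exists_qmap_eq hPnd hP.ge c hc
  have ha' : Q a = c := ha
  have haQ : Q a ≠ 0 := by rwa [ha']
  obtain ⟨w, hwP, hw, hwv⟩ : ∃ w ∈ P, Q w ≠ 0 ∧ refl Q v = refl Q w * refl Q u * refl Q w := by
    have hsum : Q (u - v) + Q (u + v) = 4 * Q u := by rw [qmap_sub, qmap_add, huv]; ring
    have h4 : (4 : F) * Q u ≠ 0 :=
      mul_ne_zero (by rw [show (4 : F) = 2 * 2 by norm_num]; exact mul_ne_zero h2 h2) hu
    by_cases h : Q (u - v) = 0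
    · rw [h, zero_add] at hsum
      refine ⟨u + v, P.add_mem huP hvP, hsum ▸ h4, ?_⟩
      conv_rhs => rw [show refl Q (u + v) * refl Q u * refl Q (u + v)
        = refl Q (u + v) * refl Q u * (refl Q (u + v))⁻¹ by rw [refl_inv], refl_conj]
      have : (refl Q (u + v)).1 u = -v := by
        rw [refl_apply, qmap_add, huv, map_add, polB_self]
        have hne : Q u + Q u + polB Q u v ≠ 0 := by
          have : Q (u + v) ≠ 0 := hsum ▸ h4
          rwa [qmap_add, huv] at this
        rw [show (Q u + Q u + polB Q u v)⁻¹ * (2 * Q u + polB Q u v) = 1 by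
          rw [← two_mul, inv_mul_cancel₀ (by rwa [← two_mul] at hne)], one_smul]
        abel
      rw [this, refl_neg]
    · refine ⟨u - v, P.sub_mem huP hvP, h, ?_⟩
      conv_rhs => rw [show refl Q (u - v) * refl Q u * refl Q (u - v)
        = refl Q (u - v) * refl Q u * (refl Q (u - v))⁻¹ by rw [refl_inv], refl_conj]
      have : (refl Q (u - v)).1 u = v := by
        rw [refl_apply, qmap_sub, huv, map_sub, polB_self]
        have hne : Q u + Q u - polB Q u v ≠ 0 := by rwa [qmap_sub, huv] at h
        rw [show (Q u + Q u - polB Q u v)⁻¹ * (2 * Q u - polB Q u v) = 1 by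
          rw [← two_mul, inv_mul_cancel₀ (by rwa [← two_mul] at hne)], one_smul]
        abel
      rw [this]
  set k := refl Q u * refl Q w
  have hk : refl Q u * refl Q v = k * k := by rw [hwv]; simp only [k, mul_assoc]
  have hinv := plane_invert hQ haQ hu hw hP.le haP huP hwP
  rw [hk]
  -- `k * k = r_a * (k⁻¹ r_a k)`
  have e : k * k = refl Q a * (k⁻¹ * refl Q a * k⁻¹⁻¹) := by
    have h1 : refl Q a * k * refl Q a = k⁻¹ := by
      rw [← mul_eq_one_iff_eq_inv]
      simpa only [k, mul_assoc] using hinv
    have h3 : refl Q a * k⁻¹ * refl Q a = k := by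
      have := congrArg (·⁻¹) h1
      simpa [mul_inv_rev, refl_inv, mul_assoc] using this
    calc k * k = refl Q a * k⁻¹ * refl Q a * k := by rw [h3]
      _ = _ := by rw [inv_inv]; simp only [mul_assoc]
  rw [e, refl_conj]
  refine mul_mem (Subgroup.subset_closure ⟨a, haQ, by rw [ha'], rfl⟩)
    (Subgroup.subset_closure ⟨_, by rw [orth_qmap]; exact haQ, by rw [orth_qmap, ha'], rfl⟩)

/-- Products of two reflections of equal value lie in the subgroup of the class `c`. -/
theorem pair_mem [Fintype F] (hQ : (polB Q).Nondegenerate) (h2 : (2 : F) ≠ 0)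
    (hn : 2 ≤ Module.finrank F V) (heven : Even (Module.finrank F V))
    (h43 : ¬ (Module.finrank F V = 4 ∧ Fintype.card F = 3)) {c : F} (hc : c ≠ 0) {u v : V}
    (hu : Q u ≠ 0) (huv : Q v = Q u) :
    refl Q u * refl Q v ∈ Subgroup.closure (normClassSet Q c) := by
  classical
  by_cases hdisc : polB Q u v * polB Q u v = 4 * (Q u * Q u)
  swap
  · exact pair_mem_of_plane hQ h2 hc hu huv hdisc
  have hu0 : u ≠ 0 := fun h => hu (h ▸ QuadraticMap.map_zero Q)
  wlog hsign : polB Q u v = 2 * Q u generalizing v
  · have hneg : polB Q u v = -(2 * Q u) := by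
      have h : (polB Q u v - 2 * Q u) * (polB Q u v + 2 * Q u) = 0 := by linear_combination hdisc
      exact eq_neg_of_add_eq_zero_left ((mul_eq_zero.mp h).resolve_left fun h => hsign (sub_eq_zero.mp h))
    rw [← refl_neg v]
    exact this (by rw [qmap_neg, huv]) (by rw [map_neg]; linear_combination hdisc)
      (by rw [map_neg, hneg, neg_neg])
  set z := v - u
  have hz : Q z = 0 := by rw [qmap_sub, huv, polB_comm v u, hsign]; ring
  have huz : polB Q u z = 0 := by rw [map_sub, hsign, polB_self, sub_self]
  by_cases hz0 : z = 0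
  · rw [sub_eq_zero.mp hz0, refl_sq]; exact one_mem _
  have hzu : z ∉ F ∙ u := fun h => by
    obtain ⟨s, hs⟩ := Submodule.mem_span_singleton.mp h
    rw [← hs, map_smul, polB_self, smul_eq_mul, mul_eq_zero, mul_eq_zero] at huz
    rcases huz with h' | h' | h'
    · exact hz0 (by rw [← hs, h', zero_smul])
    · exact h2 h'
    · exact hu h'
  obtain ⟨z', hp, hz'⟩ := exists_hypPair_orth hQ hz hzu (W := F ∙ u) (fun y hy => by
    obtain ⟨s, rfl⟩ := Submodule.mem_span_singleton.mp hy
    simp [huz])
  have huz' := hz' u (Submodule.mem_span_singleton_self u)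
  have hn4 : 3 ≤ Module.finrank F V := by
    by_contra hlt
    have hli : LinearIndependent F ![u, z, z'] := by
      rw [Fintype.linearIndependent_iff]
      intro g hg
      simp [Fin.sum_univ_three] at hg
      have e1 := congrArg (fun x => polB Q u x) hg
      have e2 := congrArg (fun x => polB Q z x) hg
      have e3 := congrArg (fun x => polB Q z' x) hg
      simp only [map_add, map_smul, smul_eq_mul, polB_self, polB_comm z u, polB_comm z' u, huz,
        huz', hp.pair, hp.symm.pair, hp.left, hp.right, map_zero] at e1 e2 e3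
      intro i
      fin_cases i
      · simpa [h2, hu] using e1
      · simpa using e3
      · simpa using e2
    have := hli.fintype_card_le_finrank
    simp at this
    omega
  obtain ⟨x, hx, hdu, hdv⟩ : ∃ x, Q x = Q u ∧ polB Q u x * polB Q u x ≠ 4 * (Q u * Q u) ∧
      polB Q x v * polB Q x v ≠ 4 * (Q u * Q u) := by
    have h4 : (4 : F) * (Q u * Q u) ≠ 0 :=
      mul_ne_zero (by rw [show (4 : F) = 2 * 2 by norm_num]; exact mul_ne_zero h2 h2)
        (mul_ne_zero hu hu)
    have hv' : v = u + z := (add_sub_cancel u v).symm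
    by_cases hq : Fintype.card F = 3
    · have hn6 : 6 ≤ Module.finrank F V := by
        obtain ⟨j, hj⟩ := heven
        have : Module.finrank F V ≠ 4 := fun h => h43 ⟨h, hq⟩
        omega
      set W := Submodule.span F (Set.range ![u, z, z'])
      have hWf : Module.finrank F W ≤ 3 := (finrank_range_le_card ![u, z, z']).trans (by simp)
      have hUnd : (polB (Q.restrict ((polB Q).orthogonal W))).Nondegenerate := by
        apply restrict_nondeg
        rw [LinearMap.BilinForm.orthogonal_orthogonal hQ (polB_isRefl Q), eq_bot_iff]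
        rintro y ⟨hy, hyW⟩
        obtain ⟨g, rfl⟩ := (Submodule.mem_span_range_iff_exists_fun F).mp hyW
        have hy' := mem_orth_span.mp hy
        have e1 := hy' u ⟨0, rfl⟩
        have e2 := hy' z ⟨1, rfl⟩
        have e3 := hy' z' ⟨2, rfl⟩
        simp [Fin.sum_univ_three, polB_self, polB_comm z u, polB_comm z' u, huz, huz', hp.pair,
          hp.symm.pair, hp.left, hp.right, h2, hu] at e1 e2 e3
        simp [Fin.sum_univ_three, e1, e2, e3]
      obtain ⟨⟨x, hxU⟩, hx⟩ := exists_qmap_eq hUnd (by
        have := finrank_orth_add hQ W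
        show 2 ≤ Module.finrank F ↥((polB Q).orthogonal W)
        omega) (Q u) hu
      have hxu : polB Q u x = 0 := mem_orth_span.mp hxU u ⟨0, rfl⟩
      have hxz : polB Q z x = 0 := mem_orth_span.mp hxU z ⟨1, rfl⟩
      refine ⟨x, hx, by rw [hxu, mul_zero]; exact h4.symm, ?_⟩
      rw [hv', map_add, polB_comm x u, hxu, polB_comm x z, hxz, add_zero, mul_zero]
      exact h4.symm
    · obtain ⟨t, ht⟩ : ∃ t : F, t ∉ ({0, 2 * Q u, -(2 * Q u)} : Finset F) := by
        by_contra hall
        push Not at hall
        have hle : Fintype.card F ≤ 3 := by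
          rw [← Finset.card_univ]
          exact (Finset.card_le_card fun t _ => hall t).trans Finset.card_le_three
        have : 2 ≤ Fintype.card F := Fintype.one_lt_card
        have : Fintype.card F % 2 = 1 := FiniteField.odd_card_of_char_ne_two fun h => h2 (by
          have := ringChar.Nat.cast_ringChar (R := F)
          rw [h] at this
          exact_mod_cast this)
        omega
      simp only [Finset.mem_insert, Finset.mem_singleton, not_or] at ht
      refine ⟨(Q u / t) • z + t • z', ?_, ?_, ?_⟩
      · rw [qmap_add, qmap_smul, qmap_smul, hz, hp.right]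
        simp [hp.pair, div_mul_cancel₀ _ ht.1]
        field_simp [ht.1]
      · simp [huz, huz', h4.symm]
      · intro heq
        rw [hv'] at heq
        simp [polB_comm z u, polB_comm z' u, huz, huz', polB_self, hz, hp.symm.pair] at heq
        have h : (t - 2 * Q u) * (t + 2 * Q u) = 0 := by linear_combination heq
        rcases mul_eq_zero.mp h with h' | h'
        · exact ht.2.1 (sub_eq_zero.mp h')
        · exact ht.2.2 (eq_neg_of_add_eq_zero_left h')
  have e1 := pair_mem_of_plane hQ h2 hc hu hx hdu
  have e2 := pair_mem_of_plane hQ h2 hc (u := x) (v := v) (by rwa [hx]) (by rw [huv, hx])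
    (by rwa [hx])
  have := mul_mem e1 e2
  rwa [mul_assoc, ← mul_assoc (refl Q x), refl_sq, one_mul] at this

/-- The reflections of one norm class generate a subgroup of index two. -/
theorem normClass_index [Fintype F] (hQ : (polB Q).Nondegenerate) (h2 : (2 : F) ≠ 0)
    (hn : 2 ≤ Module.finrank F V) (heven : Even (Module.finrank F V))
    (h43 : ¬ (Module.finrank F V = 4 ∧ Fintype.card F = 3)) {c : F} (hc : c ≠ 0) :
    (Subgroup.closure (normClassSet Q c)).index = 2 := by
  classical
  set R := Subgroup.closure (normClassSet Q c)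
  have hgen : ReflGenerates F V := reflGenerates_of_two_ne_zero h2
  obtain ⟨α, hα, hαne, hall⟩ := exists_sqc_cases F
  have hα1 := hαne h2
  let g₂ : Multiplicative (ZMod 2) →* SqClass F :=
    { toFun := fun x => if x = 1 then 1 else sqc c
      map_one' := if_pos rfl
      map_mul' := fun x y => by
        have hne : (Multiplicative.ofAdd 1 : Multiplicative (ZMod 2)) ≠ 1 := by decide
        have hsq : (Multiplicative.ofAdd 1 : Multiplicative (ZMod 2)) * Multiplicative.ofAdd 1 = 1 := rfl
        have hcases : ∀ x : Multiplicative (ZMod 2), x = 1 ∨ x = Multiplicative.ofAdd 1 := by decide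
        rcases hcases x with rfl | rfl <;> rcases hcases y with rfl | rfl <;>
          simp [hne, hsq, sqClass_mul_self] }
  let ψ : orthGroup Q →* SqClass F :=
    ((g₂.comp (MonoidHom.fst _ _)) * (MonoidHom.snd _ _)).comp (invHom hQ hgen)
  have hψ : ∀ v, Q v ≠ 0 → ψ (refl Q v) = sqc c * sqc (Q v) := by
    intro v hv
    show g₂ (invHom hQ hgen (refl Q v)).1 * (invHom hQ hgen (refl Q v)).2 = _
    rw [invHom_refl hQ hgen hv]
    rfl
  have hψ1 : ∀ v, Q v ≠ 0 → (ψ (refl Q v) = 1 ↔ sqc (Q v) = sqc c) := by
    intro v hv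
    rw [hψ v hv]
    constructor
    · intro h
      calc sqc (Q v) = sqc c * sqc c * sqc (Q v) := by rw [sqClass_mul_self, one_mul]
        _ = sqc c := by rw [mul_assoc, h, mul_one]
    · intro h; rw [h, sqClass_mul_self]
  obtain ⟨d, hd, hdc⟩ : ∃ d, d ≠ 0 ∧ sqc d ≠ sqc c := by
    by_cases h : sqc c = 1
    · exact ⟨α, hα, by rw [h]; exact hα1⟩
    · exact ⟨1, one_ne_zero, by rw [sqc_one]; exact Ne.symm h⟩
  obtain ⟨b, hb, hbd⟩ := exists_refl_qmap hQ hn hd
  have hψb : ψ (refl Q b) ≠ 1 := fun h => hdc (by rw [← hbd]; exact (hψ1 b hb).mp h)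
  have htwo : ∀ {x y z : SqClass F}, x ≠ z → y ≠ z → x = y := by
    intro x y z hx hy
    rcases hall x with rfl | rfl <;> rcases hall y with rfl | rfl <;> rcases hall z with rfl | rfl <;>
      first | rfl | exact absurd rfl hx | exact absurd rfl hy
  have hRψ : R ≤ ψ.ker := by
    rw [Subgroup.closure_le]
    rintro _ ⟨v, hv, hvc, rfl⟩
    exact (hψ1 v hv).mpr hvc
  have hother : ∀ v, Q v ≠ 0 → sqc (Q v) ≠ sqc c → refl Q b * refl Q v ∈ R := by
    intro v hv hvc
    obtain ⟨t, ht, hvt⟩ := (sqc_eq_iff hb hv).mp (htwo (z := sqc c) (by rw [hbd]; exact hdc) hvc)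
    rw [← refl_smul v ht]
    exact pair_mem hQ h2 hn heven h43 hc hb (by rw [qmap_smul, hvt]; ring)
  have hnorm : ∀ (g : orthGroup Q) {x : orthGroup Q}, x ∈ R → g * x * g⁻¹ ∈ R := by
    intro g x hx
    induction hx using Subgroup.closure_induction with
    | mem x hx =>
      obtain ⟨v, hv, hvc, rfl⟩ := hx
      rw [refl_conj]
      exact Subgroup.subset_closure ⟨_, by rwa [orth_qmap], by rwa [orth_qmap], rfl⟩
    | one => simp [R.one_mem]
    | mul p r _ _ hp hr =>
      rw [show g * (p * r) * g⁻¹ = (g * p * g⁻¹) * (g * r * g⁻¹) by group]; exact mul_mem hp hr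
    | inv p _ hp =>
      rw [show g * p⁻¹ * g⁻¹ = (g * p * g⁻¹)⁻¹ by group]; exact inv_mem hp
  have hall' : ∀ g : orthGroup Q, g ∈ R ∨ refl Q b * g ∈ R := by
    intro g
    have hg : g ∈ Subgroup.closure (reflSet Q) := by rw [closure_reflSet hQ hgen]; trivial
    have step : ∀ (w : V) (y : orthGroup Q), Q w ≠ 0 → (y ∈ R ∨ refl Q b * y ∈ R) →
        (refl Q w * y ∈ R ∨ refl Q b * (refl Q w * y) ∈ R) := by
      intro w y hw hy
      by_cases hwc : sqc (Q w) = sqc c
      · have hr : refl Q w ∈ R := Subgroup.subset_closure ⟨w, hw, hwc, rfl⟩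
        rcases hy with hy | hy
        · exact Or.inl (mul_mem hr hy)
        · refine Or.inr ?_
          have := mul_mem (hnorm (refl Q b) hr) hy
          simpa [mul_assoc, refl_inv, ← mul_assoc (refl Q b) (refl Q b), refl_sq] using this
      · have hbw := hother w hw hwc
        rcases hy with hy | hy
        · exact Or.inr (by rw [← mul_assoc]; exact mul_mem hbw hy)
        · refine Or.inl ?_
          have := mul_mem (inv_mem hbw) hy
          simpa [mul_assoc, refl_inv, ← mul_assoc (refl Q b) (refl Q b), refl_sq] using this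
    induction hg using Subgroup.closure_induction_left with
    | one => exact Or.inl (one_mem _)
    | mul_left x hx y _ hy => obtain ⟨w, hw, rfl⟩ := hx; exact step w y hw hy
    | inv_mul_cancel x hx y _ hy =>
      obtain ⟨w, hw, rfl⟩ := hx; rw [refl_inv]; exact step w y hw hy
  have hker : R = ψ.ker := by
    refine le_antisymm hRψ fun g hg => ?_
    rcases hall' g with h | h
    · exact h
    · exfalso
      have := hRψ h
      rw [MonoidHom.mem_ker] at hg this
      rw [map_mul, hg, mul_one] at this
      exact hψb this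
  have hsurj : Function.Surjective ψ := by
    intro s
    by_cases hs : s = 1
    · exact ⟨1, by rw [map_one, hs]⟩
    · exact ⟨refl Q b, htwo hψb hs⟩
  rw [hker, Subgroup.index_ker, MonoidHom.range_eq_top.mpr hsurj, Subgroup.card_top,
    sqClass_card_odd F h2]

end H43
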