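import Cfsg.Agent.H43.Omega
import Cfsg.Agent.H43.Restrict
import Mathlib

/-!
# `Ω_{2n+1}(q)` has no element of order `p (q^{n-1}+1)`
-/

set_option autoImplicit false

open LinearMap (BilinForm)

namespace H43

section Schur

variable {F : Type*} [Field F] [Fintype F] {W : Type*} [AddCommGroup W] [Module F W]
  [FiniteDimensional F W]

/-- dimensions of spaces on which an element of prime order has no fixed vector -/
theorem orderOf_dvd_finrank {r : ℕ} [Fact r.Prime] (x : Module.End F W) (hx : x ^ r = 1)
    (hfix : ∀ v, x v = v → v = 0) :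
    orderOf (Fintype.card F : ZMod r) ∣ Module.finrank F W := by
  classical
  haveI : Finite W := Module.finite_of_finite F
  haveI := Fintype.ofFinite W
  have hinj : Function.Injective x := by
    intro a b h
    have := congrArg (fun v => (x ^ (r - 1)) v) h
    simp only [← Module.End.mul_apply, ← pow_succ,
      show r - 1 + 1 = r by have := (Fact.out : r.Prime).two_le; omega, hx,
      Module.End.one_apply] at this
    exact this
  let σ : Equiv.Perm W := Equiv.ofBijective x ⟨hinj, Finite.injective_iff_surjective.1 hinj⟩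
  have hσ : σ ^ r ^ 1 = 1 := by
    rw [pow_one]
    apply Equiv.ext
    intro v
    have hpow : ∀ k : ℕ, (σ ^ k) v = (x ^ k) v := by
      intro k
      induction k with
      | zero => rfl
      | succ k ih => rw [pow_succ', pow_succ', Equiv.Perm.mul_apply, ih]; rfl
    rw [hpow, hx]; rfl
  have h := σ.card_compl_support_modEq hσ
  have hsupp : σ.supportᶜ = {0} := by
    ext v
    simp only [Finset.mem_compl, Equiv.Perm.mem_support, not_not, Finset.mem_singleton]
    exact ⟨fun h => hfix v h, fun h => by subst h; exact map_zero x⟩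
  rw [hsupp, Finset.card_singleton, Module.card_eq_pow_finrank (K := F) (V := W)] at h
  rw [orderOf_dvd_iff_pow_eq_one, ← Nat.cast_pow, ← Nat.cast_one]
  exact ((ZMod.natCast_eq_natCast_iff _ _ _).2 h).symm

/-- Schur's lemma for such an element in minimal dimension -/
theorem eq_zero_or_injective {r : ℕ} [Fact r.Prime] (x T : Module.End F W) (hx : x ^ r = 1)
    (hfix : ∀ v, x v = v → v = 0)
    (hdim : Module.finrank F W = orderOf (Fintype.card F : ZMod r))
    (hT : x * T = T * x) : T = 0 ∨ Function.Injective T := by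
  have hinv : ∀ v ∈ LinearMap.ker T, x v ∈ LinearMap.ker T := by
    intro v hv
    rw [LinearMap.mem_ker] at hv ⊢
    rw [← Module.End.mul_apply, ← hT, Module.End.mul_apply, hv, map_zero]
  have h := orderOf_dvd_finrank (W := LinearMap.ker T) (x.restrict hinv)
    (by
      refine LinearMap.ext fun v => Subtype.ext ?_
      rw [Module.End.pow_restrict, LinearMap.restrict_coe_apply, hx]
      rfl)
    (fun v hv => Subtype.ext (hfix v (congrArg Subtype.val hv)))
  rw [← hdim] at h
  rcases Nat.eq_zero_or_pos (Module.finrank F (LinearMap.ker T)) with h0 | h0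
  · right
    rw [← LinearMap.ker_eq_bot]
    exact Submodule.finrank_eq_zero.1 h0
  · left
    have hle := Nat.le_of_dvd h0 h
    have := Submodule.eq_top_of_finrank_eq (le_antisymm (Submodule.finrank_le _) hle)
    exact LinearMap.ker_eq_top.1 this

theorem det_mulLeft_pow (K : Subalgebra F (Module.End F W)) (hK : IsField K) (hN : Nontrivial W)
    (w₀ : W) (hw₀ : Function.Bijective (fun T : K => (T : Module.End F W) w₀)) (μ : K) :
    algebraMap F K (LinearMap.det (μ : Module.End F W))
      = μ ^ ((Fintype.card F ^ Module.finrank F W - 1) / (Fintype.card F - 1)) := by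
  letI : Field K := hK.toField
  let e : K ≃ₗ[F] W := LinearEquiv.ofBijective
    ((LinearMap.applyₗ w₀).comp K.val.toLinearMap) hw₀
  have he : ∀ T : K, e T = (T : Module.End F W) w₀ := fun _ => rfl
  haveI : Finite W := Module.finite_of_finite F
  haveI : Finite K := Finite.of_equiv _ e.toEquiv.symm
  have hdet : LinearMap.det (μ : Module.End F W) = Algebra.norm F μ := by
    rw [Algebra.norm_apply, ← LinearMap.det_conj (Algebra.lmul F K μ) e]
    congr 1
    refine LinearMap.ext fun v => ?_
    obtain ⟨T, rfl⟩ := e.surjective v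
    simp only [LinearMap.comp_apply, LinearEquiv.coe_coe]
    rw [LinearEquiv.symm_apply_apply, he, he]
    rfl
  rw [hdet, FiniteField.algebraMap_norm_eq_pow, Nat.card_congr e.toEquiv,
    Module.natCard_eq_pow_finrank (K := F) (V := W), Nat.card_eq_fintype_card]

end Schur

section Main

variable {F : Type*} [Field F] [Fintype F] {V : Type*} [AddCommGroup V] [Module F V]
  [FiniteDimensional F V] {Q : QuadraticForm F V}

omit [Fintype F] [FiniteDimensional F V] in
theorem orth_coe_pow (g : orthGroup Q) (k : ℕ) (v : V) :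
    (g ^ k).1 v = ((g.1 : V →ₗ[F] V) ^ k) v := by
  induction k with
  | zero => rfl
  | succ k ih => rw [pow_succ', pow_succ', orth_mul_apply, ih]; rfl

/-- The fixed space and residual space of an element of order prime to the characteristic are
complementary. -/
theorem disjoint_fixed_resid {g : orthGroup Q} {r : ℕ} (hr : (r : F) ≠ 0) (hg : g ^ r = 1) :
    Disjoint (LinearMap.ker (resMap g)) (resid g) := by
  rw [Submodule.disjoint_def]
  rintro v hv ⟨w, rfl⟩
  rw [mem_ker_resMap] at hv
  have hstep : ∀ i : ℕ, (g ^ i).1 w - (g ^ (i + 1)).1 w = resMap g w := by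
    intro i
    have : (g ^ i).1 (resMap g w) = resMap g w := by
      induction i with
      | zero => rfl
      | succ i ih => rw [pow_succ, orth_mul_apply, hv, ih]
    conv_rhs => rw [← this]
    rw [resMap_apply, map_sub, ← orth_mul_apply, ← pow_succ]
  have hsum := Finset.sum_range_sub' (fun i => (g ^ i).1 w) r
  simp only [hstep, Finset.sum_const, Finset.card_range, hg, pow_zero, sub_self] at hsum
  rw [← Nat.cast_smul_eq_nsmul F] at hsum
  exact (smul_eq_zero.1 hsum).resolve_left hr

theorem dickson_pow (hQ : (polB Q).Nondegenerate) (hgen : ReflGenerates F V) (g : orthGroup Q)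
    (k : ℕ) : dickson (g ^ k) = dickson g ^ k := by
  have h := map_pow (invHom hQ hgen) g k
  rw [invHom_apply, invHom_apply, Prod.pow_mk, Prod.mk.injEq] at h
  exact h.1

theorem spinor_mul (hQ : (polB Q).Nondegenerate) (hgen : ReflGenerates F V) (g h : orthGroup Q) :
    spinor (g * h) = spinor g * spinor h := by
  have e := map_mul (invHom hQ hgen) g h
  rw [invHom_apply, invHom_apply, invHom_apply, Prod.mk_mul_mk, Prod.mk.injEq] at e
  exact e.2

/-- `Ω_{2n+1}(q)` has no element of order `p (q^{n-1}+1)`. -/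
theorem orderOf_omega_odd_ne (hQ : (polB Q).Nondegenerate) {p n : ℕ} [Fact p.Prime] [CharP F p]
    (hp : p ≠ 2) (hn : 3 ≤ n) (hdim : Module.finrank F V = 2 * n + 1) {r : ℕ} [Fact r.Prime]
    (hord : orderOf (Fintype.card F : ZMod r) = 2 * (n - 1))
    (hrN : r ∣ Fintype.card F ^ (n - 1) + 1)
    {g : orthGroup Q} (hg : g ∈ commutator (orthGroup Q)) :
    orderOf g ≠ p * (Fintype.card F ^ (n - 1) + 1) := by
  classical
  intro hgo
  set q := Fintype.card F with hqdef
  set Q' := q ^ (n - 1) with hQ'
  set N := Q' + 1 with hN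
  have h2 : (2 : F) ≠ 0 := Ring.two_ne_zero (by rw [ringChar.eq F p]; exact hp)
  have hgen : ReflGenerates F V := reflGenerates_of_two_ne_zero h2
  have hfr2 : 2 ≤ Module.finrank F V := by omega
  have hppr : p.Prime := Fact.out
  have hrpr : r.Prime := Fact.out
  have hpq : p ∣ q := by
    obtain ⟨j, -, hj⟩ := FiniteField.card F p
    rw [hqdef, hj]; exact dvd_pow_self p j.ne_zero
  have hpN : ¬ p ∣ N := fun h =>
    hppr.not_dvd_one ((Nat.dvd_add_right (hpq.trans (dvd_pow_self q (by omega)))).1 h)
  have hrp : (r : F) ≠ 0 := by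
    rw [Ne, CharP.cast_eq_zero_iff F p]
    intro h
    exact hpN ((Nat.prime_dvd_prime_iff_eq hppr hrpr).1 h ▸ hrN)
  have hgo0 : orderOf g ≠ 0 := by
    rw [hgo]; exact Nat.mul_ne_zero hppr.ne_zero (by omega)
  -- the Jordan parts
  set s := g ^ p with hs
  set u := g ^ N with hu
  have hsN : orderOf s = N := by
    rw [hs, orderOf_pow' _ hppr.ne_zero, hgo, Nat.gcd_eq_right (dvd_mul_right p N),
      Nat.mul_div_cancel_left _ hppr.pos]
  have huo : orderOf u = p := by
    rw [hu, orderOf_pow' _ (by omega), hgo, Nat.gcd_eq_right (dvd_mul_left N p),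
      Nat.mul_div_cancel _ (by omega)]
  have hup : u ^ p = 1 := huo ▸ pow_orderOf_eq_one u
  have hsN1 : s ^ N = 1 := hsN ▸ pow_orderOf_eq_one s
  have hsu : Commute s u := (Commute.refl g).pow_pow p N
  have hsO : s ∈ commutator (orthGroup Q) := Subgroup.pow_mem _ hg p
  set x := s ^ (N / r) with hx
  have hNr : N / r ≠ 0 := by
    have := Nat.div_pos (Nat.le_of_dvd (by omega) hrN) hrpr.pos
    omega
  have hxr : x ^ r = 1 := by rw [hx, ← pow_mul, Nat.div_mul_cancel hrN, hsN1]
  have hxne : x ≠ 1 := fun h => by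
    have h1 := Nat.le_of_dvd (Nat.pos_of_ne_zero hNr) (hsN ▸ orderOf_dvd_of_pow_eq_one h)
    exact absurd h1 (Nat.not_le.2 (Nat.div_lt_self (by omega) hrpr.one_lt))
  -- decomposition
  set W := resid x with hW
  set U := LinearMap.ker (resMap x) with hU
  have hdis : Disjoint U W := disjoint_fixed_resid hrp hxr
  have hWU : W = (polB Q).orthogonal U := resid_eq_orth_fixed hQ x
  have hfr : Module.finrank F W + Module.finrank F U = 2 * n + 1 := by
    rw [← hdim]
    exact LinearMap.finrank_range_add_finrank_ker (resMap x)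
  have hsup : U ⊔ W = ⊤ := by
    refine Submodule.eq_top_of_disjoint _ _ ?_ hdis
    rw [hdim]; omega
  have hUinv : ∀ h : orthGroup Q, Commute h x → ∀ v ∈ U, h.1 v ∈ U := by
    intro h hc v hv
    rw [hU, mem_ker_resMap] at hv ⊢
    rw [← orth_mul_apply, ← hc.eq, orth_mul_apply, hv]
  have hWinv : ∀ h : orthGroup Q, Commute h x → ∀ v ∈ W, h.1 v ∈ W := by
    rintro h hc _ ⟨w, rfl⟩
    refine ⟨h.1 w, ?_⟩
    rw [resMap_apply, resMap_apply, map_sub, ← orth_mul_apply, ← orth_mul_apply, hc.eq]
  let res : ∀ h : orthGroup Q, Commute h x → Module.End F W := fun h hc =>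
    (h.1 : V →ₗ[F] V).restrict (hWinv h hc)
  have hres : ∀ h hc (v : W), ((res h hc v : W) : V) = h.1 v := fun h hc v => rfl
  have hxx : Commute x x := Commute.refl x
  set X := res x hxx with hX
  have hXpow : ∀ (h : orthGroup Q) (hc : Commute h x) (k : ℕ) (v : W),
      (((res h hc) ^ k) v : V) = (h ^ k).1 v := by
    intro h hc k v
    induction k with
    | zero => rfl
    | succ k ih =>
      rw [pow_succ', pow_succ', Module.End.mul_apply, orth_mul_apply, ← ih]
      rfl
  have hXr : X ^ r = 1 := LinearMap.ext fun v => Subtype.ext (by rw [hX, hXpow x hxx, hxr]; rfl)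
  have hXfix : ∀ v, X v = v → v = 0 := fun v hv =>
    Subtype.ext (Submodule.disjoint_def.1 hdis v (mem_ker_resMap.2 (congrArg Subtype.val hv)) v.2)
  have hdW : Module.finrank F W = 2 * (n - 1) := by
    have hd := orderOf_dvd_finrank X hXr hXfix
    rw [hord] at hd
    obtain ⟨c, hc⟩ := hd
    rcases c with _ | _ | c
    · exfalso
      exact hxne (eq_one_of_resid_eq_bot (Submodule.finrank_eq_zero.1 (by rw [← hW, hc, mul_zero])))
    · rw [hc, zero_add, mul_one]
    · exfalso
      have : 2 * (n - 1) * 2 ≤ 2 * (n - 1) * (c + 1 + 1) := Nat.mul_le_mul_left _ (by omega)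
      omega
  have hdU : Module.finrank F U = 3 := by omega
  -- the field generated by `X`
  let K : Subalgebra F (Module.End F W) := Algebra.adjoin F {X}
  have hKcomm : ∀ T ∈ K, X * T = T * X := fun T hT =>
    (Algebra.commute_of_mem_adjoin_self hT).eq
  have hKinj : ∀ T ∈ K, T = 0 ∨ Function.Injective T := fun T hT =>
    eq_zero_or_injective X T hXr hXfix (by rw [hdW, hord]) (hKcomm T hT)
  haveI : Nontrivial W := Module.nontrivial_of_finrank_pos (R := F) (by rw [hdW]; omega)
  obtain ⟨w₀, hw₀⟩ := exists_ne (0 : W)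
  haveI : Finite W := Module.finite_of_finite F
  haveI : Finite (Module.End F W) := Finite.of_injective (fun T => (T : W → W)) DFunLike.coe_injective
  haveI : Nontrivial K := ⟨⟨1, 0, fun h => by
    have := congrArg (fun T : K => (T : Module.End F W) w₀) h
    exact hw₀ (by simpa using this)⟩⟩
  haveI : IsDomain K := by
    haveI : NoZeroDivisors K := ⟨fun {a b} hab => by
      rcases hKinj a a.2 with h | h
      · exact Or.inl (Subtype.ext h)
      · refine Or.inr (Subtype.ext (LinearMap.ext fun v => h ?_))
        have := congrArg (fun T : K => (T : Module.End F W) v) hab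
        simpa using this⟩
    exact NoZeroDivisors.to_isDomain K
  let KC : CommRing K := inferInstance
  have hK : IsField K := Finite.isDomain_to_isField K
  have hKinj' : ∀ T : K, T ≠ 0 → Function.Injective (T : Module.End F W) := fun T hT =>
    (hKinj T T.2).resolve_left fun h => hT (Subtype.ext h)
  have hev : Function.Bijective (fun T : K => (T : Module.End F W) w₀) := by
    let f : K →ₗ[F] W := (LinearMap.applyₗ w₀).comp K.val.toLinearMap
    have hf : Function.Injective f := by
      intro a b h
      by_contra hne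
      have h1 : ((a - b : K) : Module.End F W) w₀ = 0 := by
        have : (a : Module.End F W) w₀ = (b : Module.End F W) w₀ := h
        simp [this]
      exact hw₀ (hKinj' _ (sub_ne_zero.2 hne) (h1.trans (map_zero _).symm))
    refine ⟨hf, ?_⟩
    have hXR : ∀ v ∈ LinearMap.range f, X v ∈ LinearMap.range f := by
      rintro _ ⟨T, rfl⟩
      exact ⟨⟨X, Algebra.self_mem_adjoin_singleton F X⟩ * T, rfl⟩
    have hd := orderOf_dvd_finrank (W := LinearMap.range f) (X.restrict hXR)
      (by
        refine LinearMap.ext fun v => Subtype.ext ?_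
        rw [Module.End.pow_restrict, LinearMap.restrict_coe_apply, hXr]
        rfl)
      (fun v hv => Subtype.ext (hXfix v (congrArg Subtype.val hv)))
    rw [hord] at hd
    have hpos : 0 < Module.finrank F (LinearMap.range f) := by
      rw [LinearMap.finrank_range_of_inj hf]
      exact Module.finrank_pos
    have htop := Submodule.eq_top_of_finrank_eq
      (le_antisymm (Submodule.finrank_le _) (hdW.le.trans (Nat.le_of_dvd hpos hd)))
    exact LinearMap.range_eq_top.1 htop
  have hmemK : ∀ T : Module.End F W, X * T = T * X → T ∈ K := by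
    intro T hT
    obtain ⟨P, hP⟩ := hev.2 (T w₀)
    have hP' : (P : Module.End F W) w₀ = T w₀ := hP
    rcases eq_zero_or_injective X (T - P) hXr hXfix (by rw [hdW, hord])
      (by rw [mul_sub, sub_mul, hT, hKcomm P P.2]) with h | h
    · rw [sub_eq_zero.1 h]; exact P.2
    · exact absurd (h (a₁ := w₀) (a₂ := 0) (by simp [hP'])) hw₀
  have hresK : ∀ h hc, res h hc ∈ K := fun h hc => hmemK _ (LinearMap.ext fun v => Subtype.ext (by
    show x.1 (h.1 (v : V)) = h.1 (x.1 (v : V))
    rw [← orth_mul_apply, ← hc.eq, orth_mul_apply]))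
  -- `u` is trivial on `W`
  have hsx : Commute s x := Commute.self_pow s (N / r)
  have hux : Commute u x := hsu.symm.pow_right (N / r)
  have huW : ∀ v ∈ W, u.1 v = v := by
    set T : K := ⟨res u hux, hresK u hux⟩
    haveI : CharP K p := (RingHom.charP_iff _ (algebraMap F K).injective p).1 ‹_›
    have hTp : T ^ p = 1 := Subtype.ext (by
      rw [SubmonoidClass.coe_pow]
      exact LinearMap.ext fun v => Subtype.ext (by rw [hXpow u hux, hup]; rfl))
    have hT1 : T = 1 := by
      have h0 : (T - 1) ^ p = 0 := by rw [sub_pow_char, hTp, one_pow, sub_self]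
      exact sub_eq_zero.1 (pow_eq_zero_iff hppr.ne_zero |>.1 h0)
    intro v hv
    have := congrArg (fun S : K => ((S : Module.End F W) ⟨v, hv⟩ : V)) hT1
    exact this
  -- `u` is a regular unipotent on `U`
  have hufix : ¬ ∀ v, u.1 v = v := fun h => by
    have h1 : u = 1 := orth_ext h
    rw [h1, orderOf_one] at huo
    exact hppr.one_lt.ne huo
  have hresu : resid u ≤ U := by
    rintro _ ⟨v, rfl⟩
    obtain ⟨a, ha, b, hb, rfl⟩ : ∃ a ∈ U, ∃ b ∈ W, a + b = v :=
      Submodule.mem_sup.1 (hsup ▸ Submodule.mem_top)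
    rw [map_add, resMap_apply, resMap_apply, huW b hb, sub_self, add_zero]
    exact U.sub_mem ha (hUinv u hux a ha)
  set M : V →ₗ[F] V := (u.1 : V →ₗ[F] V) - 1 with hM
  have hMp : M ^ p = 0 := by
    haveI : CharP (Module.End F V) p := by
      haveI : Nontrivial V := Module.nontrivial_of_finrank_pos (R := F) (by omega)
      exact (RingHom.charP_iff _ (algebraMap F (Module.End F V)).injective p).1 ‹_›
    rw [hM, sub_pow_char_of_commute p (Commute.one_right _), one_pow,
      sub_eq_zero]
    exact LinearMap.ext fun v => by rw [← orth_coe_pow, hup]; rfl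
  have hMv : ∀ v, M v = -resMap u v := fun v => by simp [hM, resMap_apply]
  have hMU : ∀ v ∈ U, M v ∈ U := fun v _ => by
    rw [hMv]; exact U.neg_mem (hresu (resMap_mem u v))
  let MU : Module.End F U := M.restrict hMU
  have hMUnil : IsNilpotent MU := ⟨p, LinearMap.ext fun v => Subtype.ext (by
    rw [Module.End.pow_restrict, LinearMap.restrict_coe_apply, hMp]; rfl)⟩
  have hMU3 : MU ^ 3 = 0 := by
    have h := LinearMap.aeval_self_charpoly MU
    rwa [hMUnil.charpoly_eq_X_pow_finrank, hdU, map_pow, Polynomial.aeval_X] at h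
  have hranku : Module.finrank F (resid u) = 2 := by
    have h1 : dickson u = 1 := by
      have h := dickson_pow hQ hgen u p
      rw [hup, dickson_one] at h
      have h2 : ∀ a : Multiplicative (ZMod 2), a ^ p = 1 → a = 1 := by
        intro a ha
        rw [← orderOf_eq_one_iff]
        have hsq : ∀ b : Multiplicative (ZMod 2), b ^ 2 = 1 := by decide
        have ha2 : orderOf a ∣ 2 := orderOf_dvd_of_pow_eq_one (hsq a)
        rcases (Nat.dvd_prime Nat.prime_two).1 ha2 with h | h
        · exact h
        · have := orderOf_dvd_of_pow_eq_one ha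
          rw [h] at this
          exact absurd ((Nat.prime_dvd_prime_iff_eq Nat.prime_two hppr).1 this).symm hp
      exact h2 _ h.symm
    have hle : Module.finrank F (resid u) ≤ 3 := hdU ▸ Submodule.finrank_mono hresu
    have heven : 2 ∣ Module.finrank F (resid u) := by
      rw [dickson, ← ofAdd_zero, Multiplicative.ofAdd.injective.eq_iff] at h1
      exact (ZMod.natCast_eq_zero_iff _ _).1 h1
    have hne : Module.finrank F (resid u) ≠ 0 := fun h0 => hufix fun v => by
      rw [eq_one_of_resid_eq_bot (Submodule.finrank_eq_zero.1 h0)]; rfl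
    omega
  have hrange : Module.finrank F (LinearMap.range MU) = 2 := by
    suffices hh : Submodule.map U.subtype (LinearMap.range MU) = resid u by
      rw [← hranku, ← hh, Submodule.finrank_map_subtype_eq]
    ext v
    constructor
    · rintro ⟨_, ⟨a, rfl⟩, rfl⟩
      exact ⟨-(a : V), by rw [map_neg, ← hMv]; rfl⟩
    · rintro ⟨w, rfl⟩
      obtain ⟨a, ha, b, hb, rfl⟩ : ∃ a ∈ U, ∃ b ∈ W, a + b = w :=
        Submodule.mem_sup.1 (hsup ▸ Submodule.mem_top)
      refine ⟨⟨M (-a), hMU _ (U.neg_mem ha)⟩, ⟨⟨-a, U.neg_mem ha⟩, rfl⟩, ?_⟩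
      show M (-a) = _
      rw [hMv, map_neg, neg_neg, map_add, resMap_apply u b, huW b hb, sub_self, add_zero]
  have hker : Module.finrank F (LinearMap.ker MU) = 1 := by
    have := LinearMap.finrank_range_add_finrank_ker MU
    omega
  obtain ⟨e₀, he₀⟩ : ∃ e : U, MU (MU e) ≠ 0 := by
    by_contra h
    push Not at h
    have : LinearMap.range MU ≤ LinearMap.ker MU := by rintro _ ⟨e, rfl⟩; exact h e
    have := Submodule.finrank_mono this
    omega
  have hM3 : ∀ v : U, MU (MU (MU v)) = 0 := fun v => by
    have := LinearMap.congr_fun hMU3 v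
    simpa [pow_succ] using this
  let fam : Fin 3 → U := ![e₀, MU e₀, MU (MU e₀)]
  have hfam : LinearIndependent F fam := by
    rw [Fintype.linearIndependent_iff]
    intro c hc
    simp only [Fin.sum_univ_three, fam, Matrix.cons_val_zero, Matrix.cons_val_one,
      Matrix.cons_val] at hc
    have h0 : c 0 = 0 := by
      have := congrArg (fun v => MU (MU v)) hc
      simp only [map_add, map_smul, hM3, smul_zero, add_zero, map_zero] at this
      exact (smul_eq_zero.1 this).resolve_right he₀
    rw [h0, zero_smul, zero_add] at hc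
    have h1 : c 1 = 0 := by
      have := congrArg MU hc
      simp only [map_add, map_smul, hM3, smul_zero, add_zero, map_zero] at this
      exact (smul_eq_zero.1 this).resolve_right he₀
    rw [h1, zero_smul, zero_add] at hc
    intro i
    fin_cases i
    · exact h0
    · exact h1
    · exact (smul_eq_zero.1 hc).resolve_right he₀
  let bU : Module.Basis (Fin 3) F U := basisOfLinearIndependentOfCardEqFinrank hfam (by simp [hdU])
  -- `s` is `±1` on `U`
  let S : Module.End F U := (s.1 : V →ₗ[F] V).restrict (hUinv s hsx)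
  have hSM : ∀ v : U, S (MU v) = MU (S v) := fun v => Subtype.ext (by
    show s.1 (u.1 (v : V) - v) = u.1 (s.1 (v : V)) - s.1 (v : V)
    rw [map_sub, ← orth_mul_apply, hsu.eq, orth_mul_apply])
  set a : F := bU.repr (S e₀) 0 with ha
  set b : F := bU.repr (S e₀) 1 with hb
  set c : F := bU.repr (S e₀) 2 with hc
  have hSe : S e₀ = a • e₀ + b • MU e₀ + c • MU (MU e₀) := by
    have := bU.sum_repr (S e₀)
    simp only [Fin.sum_univ_three, bU, coe_basisOfLinearIndependentOfCardEqFinrank, fam,
      Matrix.cons_val_zero, Matrix.cons_val_one, Matrix.cons_val] at this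
    exact this.symm
  let Z : Module.End F U := b • MU + c • (MU * MU)
  have hSZ : S = algebraMap F (Module.End F U) a + Z := by
    refine bU.ext fun i => ?_
    simp only [bU, coe_basisOfLinearIndependentOfCardEqFinrank, fam]
    fin_cases i <;>
      simp [Z, Algebra.algebraMap_eq_smul_one, hSM, hSe, hM3, add_assoc]
  have hZ : IsNilpotent Z := by
    refine Commute.isNilpotent_add ?_ (hMUnil.smul b) ((Commute.refl MU).isNilpotent_mul_left hMUnil |>.smul c)
    exact ((Commute.refl MU).mul_right (Commute.refl MU)).smul_right c |>.smul_left b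
  have hS_N : S ^ N = 1 := LinearMap.ext fun v => Subtype.ext (by
    rw [Module.End.pow_restrict, LinearMap.restrict_coe_apply, ← orth_coe_pow, hsN1]; rfl)
  have hSscal : S = algebraMap F (Module.End F U) a := by
    have hcomm : Commute (algebraMap F (Module.End F U) a) Z := Algebra.commutes a Z
    haveI : Nontrivial U := Module.nontrivial_of_finrank_pos (R := F) (by omega)
    haveI : CharP (Module.End F U) p :=
      (RingHom.charP_iff _ (algebraMap F (Module.End F U)).injective p).1 ‹_›
    obtain ⟨k, hk⟩ := hZ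
    have hk' : Z ^ p ^ k = 0 := pow_eq_zero_of_le (Nat.lt_pow_self hppr.one_lt).le hk
    have hSp : S ^ p ^ k = algebraMap F (Module.End F U) (a ^ p ^ k) := by
      rw [hSZ, add_pow_char_pow_of_commute p k hcomm, hk', add_zero, map_pow]
    obtain ⟨l, -, hl⟩ := Nat.exists_mul_mod_eq_one_of_coprime
      (Nat.Coprime.pow_left k ((Nat.Prime.coprime_iff_not_dvd hppr).2 hpN)) (by have : 0 < q ^ (n - 1) := Nat.pow_pos Fintype.card_pos; omega)
    have hSl : S = S ^ (p ^ k * l) := by
      rw [← Nat.div_add_mod (p ^ k * l) N, hl, pow_add, pow_mul, hS_N, one_pow, one_mul, pow_one]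
    have hS' : S = algebraMap F (Module.End F U) ((a ^ p ^ k) ^ l) := by
      rw [hSl, pow_mul, hSp, ← map_pow]
    have hdiff : Z = algebraMap F (Module.End F U) ((a ^ p ^ k) ^ l - a) := by
      rw [map_sub, ← hS', hSZ]; abel
    have h0 : (a ^ p ^ k) ^ l - a = 0 := by
      apply (pow_eq_zero_iff (show p ^ k ≠ 0 from pow_ne_zero _ hppr.ne_zero)).1
      apply (algebraMap F (Module.End F U)).injective
      rw [map_pow, ← hdiff, hk', map_zero]
    rw [hSZ, hdiff, h0, map_zero, add_zero]
  have hUnd : ∃ v ∈ U, ∃ w ∈ U, polB Q v w ≠ 0 := by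
    by_contra h
    push Not at h
    have hle : U ≤ W := fun v hv => hWU ▸ fun w hw => h w hw v hv
    have : U = ⊥ := disjoint_self.1 (hdis.mono_right hle)
    rw [this, finrank_bot] at hdU
    omega
  have hsU : ∀ v ∈ U, s.1 v = a • v := fun v hv => by
    have := congrArg (fun T : Module.End F U => (T ⟨v, hv⟩ : V)) hSscal
    exact this
  have ha2 : a * a = 1 := by
    obtain ⟨v, hv, w, hw, hvw⟩ := hUnd
    have := orth_polB_map s v w
    rw [hsU v hv, hsU w hw, map_smul, map_smul, LinearMap.smul_apply, smul_eq_mul, smul_eq_mul,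
      ← mul_assoc] at this
    exact mul_right_cancel₀ hvw (this.trans (one_mul _).symm)
  -- the torus part
  set L : K := ⟨res s hsx, hresK s hsx⟩ with hL
  have hsfixW : ∀ (k : ℕ) (v : V) (hv : v ∈ W),
      (((L ^ k : K) : Module.End F W) ⟨v, hv⟩ : V) = (s ^ k).1 v := fun k v hv => by
    rw [SubmonoidClass.coe_pow, hL, hXpow s hsx]
  rw [mem_commutator_iff hQ hgen hfr2] at hsO
  have hres1 : W ≤ resid s := by
    rw [hW]
    rintro _ ⟨w, rfl⟩
    refine ⟨∑ i ∈ Finset.range (N / r), (s ^ i).1 w, ?_⟩
    rw [map_sum]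
    have := Finset.sum_range_sub' (fun i => (s ^ i).1 w) (N / r)
    simp only [pow_zero, orth_one_apply] at this
    rw [resMap_apply, hx, ← this]
    refine Finset.sum_congr rfl fun i _ => ?_
    rw [resMap_apply, ← orth_mul_apply, ← pow_succ']
  have ha1 : a = 1 := by
    rcases mul_self_eq_one_iff.1 ha2 with h | h
    · exact h
    exfalso
    have hUle : U ≤ resid s := fun v hv => by
      refine ⟨(2 : F)⁻¹ • v, ?_⟩
      rw [resMap_apply, map_smul, hsU v hv, h, neg_one_smul, ← smul_sub, sub_neg_eq_add,
        ← two_smul F v, smul_smul, inv_mul_cancel₀ h2, one_smul]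
    have htop : resid s = ⊤ := eq_top_iff.2 (hsup ▸ sup_le hUle hres1)
    have h1 := hsO.1
    rw [dickson, htop, finrank_top, hdim] at h1
    have : ((2 * n + 1 : ℕ) : ZMod 2) = 0 := h1
    rw [Nat.cast_add, Nat.cast_mul, show ((2 : ℕ) : ZMod 2) = 0 from rfl] at this
    simp at this
  have hsU1 : ∀ v ∈ U, s.1 v = v := fun v hv => by rw [hsU v hv, ha1, one_smul]
  have hLord : ∀ k : ℕ, L ^ k = 1 → N ∣ k := by
    intro k hk
    rw [← hsN]
    apply orderOf_dvd_of_pow_eq_one
    apply orth_ext
    intro v
    obtain ⟨a', ha', b', hb', rfl⟩ : ∃ a' ∈ U, ∃ b' ∈ W, a' + b' = v :=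
      Submodule.mem_sup.1 (hsup ▸ Submodule.mem_top)
    have hU' : ∀ k : ℕ, (s ^ k).1 a' = a' := by
      intro k
      induction k with
      | zero => rfl
      | succ k ih => rw [pow_succ', orth_mul_apply, ih, hsU1 a' ha']
    rw [map_add, hU', orth_one_apply, ← hsfixW k b' hb', hk]
    rfl
  -- spinor norms of `s` and `s²`
  have hq1 : 2 ≤ q := Fintype.one_lt_card
  have hN4 : 4 ≤ N := by
    have : q ^ 1 ≤ q ^ (n - 1) := Nat.pow_le_pow_right (by omega) (by omega)
    have hq3 : 3 ≤ q := by
      have := Nat.le_of_dvd (by omega) hpq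
      have := hppr.two_le
      omega
    rw [pow_one] at this
    omega
  have hresW : resid s = W := by
    refine le_antisymm ?_ hres1
    rintro _ ⟨v, rfl⟩
    obtain ⟨a', ha', b', hb', rfl⟩ : ∃ a' ∈ U, ∃ b' ∈ W, a' + b' = v :=
      Submodule.mem_sup.1 (hsup ▸ Submodule.mem_top)
    rw [map_add, resMap_apply, resMap_apply, hsU1 a' ha', sub_self, zero_add]
    exact W.sub_mem hb' (hWinv s hsx b' hb')
  letI : Field K := hK.toField
  have hL0 : L ≠ 0 := fun h => by
    have h1 : L ^ N = 1 := Subtype.ext (LinearMap.ext fun v => Subtype.ext (by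
      rw [hsfixW N v v.2, hsN1]; rfl))
    rw [h, zero_pow (by omega)] at h1
    exact zero_ne_one h1
  have h1m : (1 : K) - L * L ≠ 0 := fun h => by
    have := Nat.le_of_dvd (by norm_num) (hLord 2 (by rw [pow_two]; exact (sub_eq_zero.1 h).symm))
    omega
  have h1p : (1 : K) + L ≠ 0 := fun h => h1m (by linear_combination (1 - L) * h)
  have hbijK : ∀ T : K, T ≠ 0 → Function.Bijective (T : Module.End F W) := fun T hT =>
    ⟨hKinj' T hT, LinearMap.injective_iff_surjective.1 (hKinj' T hT)⟩
  -- adapted bases
  let bW := Module.finBasis F W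
  let e2 : W ≃ₗ[F] W := LinearEquiv.ofBijective _ (hbijK _ h1m)
  let bw : Module.Basis _ F W := bW.map e2.symm
  have hres2 : ∀ i, resMap (s * s) (bw i : V) = (bW i : V) := by
    intro i
    have h : ((1 : K) - L * L : K).1 (bw i) = bW i := e2.apply_symm_apply (bW i)
    have h' := congrArg Subtype.val h
    rw [resMap_apply, orth_mul_apply, ← h']
    rfl
  have hind : LinearIndependent F (fun i => (bW i : V)) :=
    bW.linearIndependent.map' W.subtype W.ker_subtype
  have hspanW : Submodule.span F (Set.range fun i => (bW i : V)) = W := by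
    rw [show (Set.range fun i => (bW i : V)) = W.subtype '' Set.range bW from by
      rw [← Set.range_comp]; rfl, Submodule.span_image, bW.span_eq, Submodule.map_top,
      Submodule.range_subtype]
  have hresss : resid (s * s) = W := by
    refine le_antisymm ?_ ?_
    · rw [← hresW]
      rintro _ ⟨v, rfl⟩
      refine ⟨v + s.1 v, ?_⟩
      rw [map_add, resMap_apply, resMap_apply, resMap_apply, orth_mul_apply]
      abel
    · rw [← hspanW, Submodule.span_le]
      rintro _ ⟨i, rfl⟩
      exact ⟨_, hres2 i⟩
  have hd2 := sqc_wallDisc_of_family hQ (s * s) (fun i => (bW i : V)) (fun i => (bw i : V)) hind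
    (hspanW.trans hresss.symm) hres2
  have hd1 := sqc_wallDisc_of_family hQ s (fun i => (bW i : V))
    (fun i => (((1 + L : K).1 (bw i) : W) : V)) hind
    (hspanW.trans hresW.symm) (by
      intro i
      rw [← hres2 i, resMap_apply, resMap_apply, orth_mul_apply]
      show ((bw i : V) + s.1 (bw i : V)) - s.1 ((bw i : V) + s.1 (bw i : V)) = _
      rw [map_add]; abel)
  set A := LinearMap.toMatrix bw bw ((1 + L : K) : Module.End F W) with hA
  have hmat : (Matrix.of fun i j => polB Q (((1 + L : K).1 (bw i) : W) : V) (bW j : V))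
      = A.transpose * (Matrix.of fun i j => polB Q (bw i : V) (bW j : V)) := by
    ext i j
    simp only [Matrix.of_apply, Matrix.mul_apply, Matrix.transpose_apply, hA,
      LinearMap.toMatrix_apply]
    conv_lhs => rw [← bw.sum_repr ((1 + L : K).1 (bw i))]
    simp [Finset.sum_apply]
  have hdet0 : (Matrix.of fun i j => polB Q (bw i : V) (bW j : V)).det ≠ 0 := by
    intro h
    have hsp : spinor (s * s) = 1 := by rw [spinor_mul hQ hgen, hsO.2, one_mul]
    have hli : (Matrix.of fun i j => polB Q (bw i : V) (bW j : V))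
        = LinearMap.BilinForm.toMatrix ((Module.Basis.span hind).map (LinearEquiv.ofEq _ _
            (hspanW.trans hresss.symm))) (wallForm (s * s)) := by
      ext i j
      rw [Matrix.of_apply, LinearMap.BilinForm.toMatrix_apply,
        wallForm_eq (s * s) (w := (bw i : V)) (by rw [hres2]; simp [Module.Basis.span_apply])]
      simp [Module.Basis.span_apply]
    rw [hli] at h
    exact (LinearMap.BilinForm.nondegenerate_iff_det_ne_zero _).1 (wallForm_nondeg hQ (s * s)) h
  have hdet1 : LinearMap.det ((1 + L : K) : Module.End F W) ≠ 0 :=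
    (LinearEquiv.ofBijective _ (hbijK _ h1p)).isUnit_det'.ne_zero
  have hd12 : sqc ((LinearMap.det ((1 + L : K) : Module.End F W))) = 1 := by
    have hs1 : sqc (wallDisc s) = 1 := hsO.2
    have hs2 : sqc (wallDisc (s * s)) = 1 := by
      show spinor (s * s) = 1
      rw [spinor_mul hQ hgen, hsO.2, one_mul]
    rw [hs1, hmat, Matrix.det_mul, Matrix.det_transpose, hA, LinearMap.det_toMatrix,
      sqc_mul hdet1 hdet0, hd2, hs2, mul_one] at hd1
    exact hd1
  -- the contradiction
  have hdetne : LinearMap.det ((1 + L : K) : Module.End F W) ≠ 0 :=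
    (LinearEquiv.ofBijective _ (hbijK _ h1p)).isUnit_det'.ne_zero
  have hsq : IsSquare (LinearMap.det ((1 + L : K) : Module.End F W)) :=
    (sqc_eq_one_iff hdetne).1 hd12
  have hchar : ringChar F ≠ 2 := by rw [ringChar.eq F p]; exact hp
  have hpow1 : LinearMap.det ((1 + L : K) : Module.End F W) ^ (q / 2) = 1 :=
    (FiniteField.isSquare_iff hchar hdetne).1 hsq
  have hnorm := det_mulLeft_pow K hK inferInstance w₀ hev (1 + L)
  rw [hdW, ← hqdef] at hnorm
  have hodd : q % 2 = 1 := FiniteField.odd_card_of_char_ne_two hchar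
  obtain ⟨N', hN'⟩ : ∃ k, N = 2 * k := ⟨N / 2, by
    have : Q' % 2 = 1 := by rw [hQ', Nat.pow_mod, hodd, one_pow]; rfl
    omega⟩
  have hexp : (q ^ (2 * (n - 1)) - 1) / (q - 1) * (q / 2) = (Q' - 1) * N' := by
    have h2' : (q ^ (2 * (n - 1)) - 1) = (Q' - 1) * N := by
      rw [hQ', hN, hQ', show 2 * (n - 1) = (n - 1) + (n - 1) by ring, pow_add, Nat.mul_comm (q ^ (n-1) - 1)]
      rw [Nat.mul_sub, mul_one, add_mul, one_mul]
      omega
    have hdvd : (q - 1) ∣ q ^ (2 * (n - 1)) - 1 := by
      simpa using Nat.sub_dvd_pow_sub_pow q 1 (2 * (n - 1))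
    have hhalf : q - 1 = 2 * (q / 2) := by omega
    obtain ⟨j, hj⟩ := hdvd
    rw [hj, Nat.mul_div_cancel_left _ (by omega)]
    rw [h2', hN', hhalf] at hj
    have h3 : 2 * ((Q' - 1) * N') = 2 * (j * (q / 2)) := by linarith [hj]
    omega
  have h1L : ((1 : K) + L) ^ ((Q' - 1) * N') = 1 := by
    rw [← hexp, pow_mul, ← hnorm, ← map_pow, hpow1, map_one]
  -- `(1+L)^Q' = (1+L)/L`
  have hLQ : L ^ Q' * L = 1 := by
    rw [← pow_succ]
    refine Subtype.ext (LinearMap.ext fun v => Subtype.ext ?_)
    rw [hsfixW _ v v.2, ← hN, hsN1]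
    rfl
  have hFrob : ((1 : K) + L) ^ Q' = 1 + L ^ Q' := by
    haveI : CharP K p := (RingHom.charP_iff _ (algebraMap F K).injective p).1 ‹_›
    obtain ⟨j, -, hj⟩ := FiniteField.card F p
    rw [hQ', hqdef, hj, ← pow_mul, add_pow_char_pow, one_pow]
  have h2L : ((1 : K) + L) ^ (Q' - 1) * L = 1 := by
    have hQpos : Q' - 1 + 1 = Q' := by
      have : 0 < q ^ (n - 1) := Nat.pow_pos (by omega)
      omega
    apply mul_right_cancel₀ h1p
    rw [one_mul, mul_right_comm, ← pow_succ, hQpos, hFrob, add_mul, one_mul, hLQ, add_comm]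
  have h3 : L ^ N' = 1 := by
    have := congrArg (· ^ N') h2L
    simp only [mul_pow, one_pow, ← pow_mul, h1L, one_mul] at this
    exact this
  have := Nat.le_of_dvd (by omega) (hLord N' h3)
  omega

end Main

end H43
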